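import Groth.Agent.CAlgH39.RadBound.Syz
import Groth.Agent.FlatMisc.SpreadGeomRed

/-! Degree bound for radicals of polynomial ideals, uniform in the field. -/

universe u

open MvPolynomial TensorProduct

namespace Groth.Agent.CAlgH39.RadBound

variable {N : ℕ}

/-- A reduced fibre `L ⊗_B B[x]/J` says that the base-changed ideal is radical. -/
theorem isRadical_of_isReduced {B : Type u} [CommRing B] (J : Ideal (MvPolynomial (Fin N) B))
    (L : Type u) [CommRing L] [Algebra B L]
    [_root_.IsReduced (L ⊗[B] (MvPolynomial (Fin N) B ⧸ J))] :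
    (J.map (map (algebraMap B L))).IsRadical := by
  intro f ⟨t, ht⟩
  set JL := J.map (map (algebraMap B L))
  let α : MvPolynomial (Fin N) L →ₐ[L] L ⊗[B] (MvPolynomial (Fin N) B ⧸ J) :=
    aeval fun i => (1 : L) ⊗ₜ[B] (Ideal.Quotient.mk J (X i))
  let γ : MvPolynomial (Fin N) B ⧸ J →ₐ[B] MvPolynomial (Fin N) L ⧸ JL :=
    Ideal.quotientMapₐ JL (mapAlgHom (Algebra.ofId B L)) Ideal.le_comap_map
  let β : L ⊗[B] (MvPolynomial (Fin N) B ⧸ J) →ₐ[L] MvPolynomial (Fin N) L ⧸ JL :=
    Algebra.TensorProduct.lift (Algebra.ofId L _) γ fun _ _ => Commute.all _ _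
  have hγ : ∀ p, γ (Ideal.Quotient.mk J p) = Ideal.Quotient.mk JL (map (algebraMap B L) p) := fun p => rfl
  have hβα : β.comp α = Ideal.Quotient.mkₐ L JL := by
    refine algHom_ext fun i => ?_
    simp [α, β, hγ, Algebra.ofId_apply]
  have hαJ : JL ≤ RingHom.ker α := by
    refine Ideal.map_le_iff_le_comap.2 fun p hp => ?_
    rw [Ideal.mem_comap, RingHom.mem_ker]
    have : (α.restrictScalars B).comp (mapAlgHom (Algebra.ofId B L)) =
        (Algebra.TensorProduct.includeRight).comp (Ideal.Quotient.mkₐ B J) :=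
      algHom_ext fun i => by simp [α]
    refine (AlgHom.congr_fun this p).trans ?_
    simp [Ideal.Quotient.eq_zero_iff_mem.2 hp]
  have h0 : α f = 0 := IsReduced.eq_zero _ ⟨t, (show (α f) ^ t = 0 from (map_pow α.toRingHom f t).symm.trans (hαJ ht))⟩
  rw [← Ideal.Quotient.eq_zero_iff_mem, ← Ideal.Quotient.mkₐ_eq_mk L, ← hβα, AlgHom.comp_apply, h0, map_zero]

/-- Conversely, a radical base-changed ideal gives a reduced fibre. -/
theorem isReduced_of_isRadical {B : Type u} [CommRing B] (J : Ideal (MvPolynomial (Fin N) B))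
    (L : Type u) [CommRing L] [Algebra B L] (h : (J.map (map (algebraMap B L))).IsRadical) :
    _root_.IsReduced (L ⊗[B] (MvPolynomial (Fin N) B ⧸ J)) := by
  let α : MvPolynomial (Fin N) L →ₐ[L] L ⊗[B] (MvPolynomial (Fin N) B ⧸ J) :=
    aeval fun i => (1 : L) ⊗ₜ[B] (Ideal.Quotient.mk J (X i))
  have hα : ∀ p, α (map (algebraMap B L) p) = (1 : L) ⊗ₜ[B] (Ideal.Quotient.mk J p) := fun p => by
    have : (α.restrictScalars B).comp (mapAlgHom (Algebra.ofId B L)) =
        (Algebra.TensorProduct.includeRight).comp (Ideal.Quotient.mkₐ B J) :=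
      algHom_ext fun i => by simp [α]
    exact AlgHom.congr_fun this p
  have hsurj : Function.Surjective α := by
    intro z
    induction z using TensorProduct.induction_on with
    | zero => exact ⟨0, map_zero _⟩
    | add x y hx hy =>
      obtain ⟨a, rfl⟩ := hx; obtain ⟨b, rfl⟩ := hy
      exact ⟨a + b, map_add _ _ _⟩
    | tmul l y =>
      obtain ⟨p, rfl⟩ := Ideal.Quotient.mk_surjective y
      exact ⟨l • map (algebraMap B L) p, by rw [map_smul, hα, TensorProduct.smul_tmul', smul_eq_mul, mul_one]⟩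
  let γ : MvPolynomial (Fin N) B ⧸ J →ₐ[B] MvPolynomial (Fin N) L ⧸ (J.map (map (algebraMap B L))) :=
    Ideal.quotientMapₐ _ (mapAlgHom (Algebra.ofId B L)) Ideal.le_comap_map
  let β : L ⊗[B] (MvPolynomial (Fin N) B ⧸ J) →ₐ[L] MvPolynomial (Fin N) L ⧸ (J.map (map (algebraMap B L))) :=
    Algebra.TensorProduct.lift (Algebra.ofId L _) γ fun _ _ => Commute.all _ _
  have hγ : ∀ p, γ (Ideal.Quotient.mk J p) = Ideal.Quotient.mk _ (map (algebraMap B L) p) := fun p => rfl
  have hβα : β.comp α = Ideal.Quotient.mkₐ L _ :=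
    algHom_ext fun i => by simp [α, β, hγ, Algebra.ofId_apply]
  refine ⟨fun z ⟨t, ht⟩ => ?_⟩
  obtain ⟨f, rfl⟩ := hsurj z
  have hf : f ∈ J.map (map (algebraMap B L)) := by
    refine h ⟨t, Ideal.Quotient.eq_zero_iff_mem.1 ?_⟩
    rw [← Ideal.Quotient.mkₐ_eq_mk L, ← hβα, AlgHom.comp_apply]
    exact (congrArg β ((map_pow α.toRingHom f t).trans ht :)).trans (map_zero β)
  have : J.map (map (algebraMap B L)) ≤ RingHom.ker α := Ideal.map_le_iff_le_comap.2 fun p hp => by
    rw [Ideal.mem_comap, RingHom.mem_ker, hα, Ideal.Quotient.eq_zero_iff_mem.2 hp, tmul_zero]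
  exact this hf

/-- Radicality at an algebraically closed generic point spreads out. -/
theorem exists_radical_near {B : Type u} [CommRing B] [IsDomain B] (J : Ideal (MvPolynomial (Fin N) B))
    (Ω : Type u) [Field Ω] [IsAlgClosed Ω] [Algebra B Ω] (hBΩ : Function.Injective (algebraMap B Ω))
    (hJ : (J.map (map (algebraMap B Ω))).IsRadical) :
    ∃ c : B, c ≠ 0 ∧ ∀ (F : Type u) [Field F] [Algebra B F], algebraMap B F c ≠ 0 →
      (J.map (map (algebraMap B F))).IsRadical := by
  have : FaithfulSMul B Ω := (faithfulSMul_iff_algebraMap_injective _ _).2 hBΩ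
  let L := FractionRing B
  let : Algebra L Ω := FractionRing.liftAlgebra B Ω
  have : Algebra.IsGeometricallyReduced L (L ⊗[B] (MvPolynomial (Fin N) B ⧸ J)) := by
    rw [Algebra.isGeometricallyReduced_field_iff]
    let Lb := AlgebraicClosure L
    let i : Lb →ₐ[L] Ω := IsAlgClosed.lift
    let : Algebra Lb Ω := i.toRingHom.toAlgebra
    have : IsScalarTower L Lb Ω := IsScalarTower.of_algebraMap_eq fun r => (i.commutes r).symm
    have : IsScalarTower B Lb Ω := IsScalarTower.of_algebraMap_eq fun r => by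
      rw [IsScalarTower.algebraMap_apply B L Lb, ← IsScalarTower.algebraMap_apply L Lb Ω,
        ← IsScalarTower.algebraMap_apply B L Ω]
    have := isReduced_of_isRadical J Ω hJ
    have : _root_.IsReduced (Lb ⊗[B] (MvPolynomial (Fin N) B ⧸ J)) := isReduced_of_injective _
      (Groth.Agent.FlatMisc.SpreadRed.map_injective_of_fields Lb Ω (MvPolynomial (Fin N) B ⧸ J))
    exact isReduced_of_injective (Algebra.TensorProduct.cancelBaseChange B L L Lb _) (AlgEquiv.injective _)
  obtain ⟨c, hc, hred⟩ := Groth.Agent.FlatMisc.SpreadRed.exists_reduced_near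
    (R := B) (S := MvPolynomial (Fin N) B ⧸ J) L
  exact ⟨c, hc, fun F _ _ h => have := hred F h; isRadical_of_isReduced J F⟩

/-- Points with values in algebraically closed fields lift along injective integral maps. -/
theorem exists_algHom_algClosed {A B : Type u} [CommRing A] [CommRing B] [Algebra A B] [Algebra.IsIntegral A B]
    (hinj : Function.Injective (algebraMap A B)) (kb : Type u) [Field kb] [IsAlgClosed kb] [Algebra A kb] :
    Nonempty (B →ₐ[A] kb) := by
  let p := RingHom.ker (algebraMap A kb)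
  have : p.IsPrime := RingHom.ker_isPrime _
  obtain ⟨Q, -, hQ, hQp⟩ := Ideal.exists_ideal_over_prime_of_isIntegral (S := B) p (⊥ : Ideal B)
    (le_of_eq_of_le ((RingHom.injective_iff_ker_eq_bot _).1 hinj) bot_le)
  have : Q.LiesOver p := ⟨hQp.symm⟩
  let : Algebra (A ⧸ p) kb := (RingHom.kerLift (algebraMap A kb)).toAlgebra
  have : IsScalarTower A (A ⧸ p) kb := IsScalarTower.of_algebraMap_eq fun x => rfl
  have : FaithfulSMul (A ⧸ p) kb :=
    (faithfulSMul_iff_algebraMap_injective _ _).2 (RingHom.kerLift_injective _)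
  have : FaithfulSMul (A ⧸ p) (B ⧸ Q) := Ideal.Quotient.instFaithfulSMul Q p
  have : Module.IsTorsionFree (A ⧸ p) (B ⧸ Q) :=
    Module.isTorsionFree_iff_algebraMap_injective.2 (FaithfulSMul.algebraMap_injective _ _)
  have : Module.IsTorsionFree (A ⧸ p) kb := Module.isTorsionFree_iff_algebraMap_injective.2 (RingHom.kerLift_injective _)
  exact ⟨((IsAlgClosed.lift : B ⧸ Q →ₐ[A ⧸ p] kb).restrictScalars A).comp (Ideal.Quotient.mkₐ A Q)⟩

/-- Radicals have bounded degree near the generic point. -/
theorem exists_rad_spread {A : Type u} [CommRing A] [IsDomain A] [IsNoetherianRing A] {ι : Type} [Fintype ι]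
    (g : ι → MvPolynomial (Fin N) A) :
    ∃ c : A, c ≠ 0 ∧ ∃ D : ℕ, ∀ (k : Type u) [Field k] [Algebra A k], algebraMap A k c ≠ 0 →
      (Ideal.span (Set.range fun i => map (algebraMap A k) (g i))).radical ≤
        Ideal.span {q | q.totalDegree ≤ D ∧
          q ∈ (Ideal.span (Set.range fun i => map (algebraMap A k) (g i))).radical} := by
  classical
  let Ω := AlgebraicClosure (FractionRing A)
  have hAΩ : Function.Injective (algebraMap A Ω) := by
    rw [IsScalarTower.algebraMap_eq A (FractionRing A) Ω]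
    exact (algebraMap (FractionRing A) Ω).injective.comp (IsFractionRing.injective A (FractionRing A))
  let I := Ideal.span (Set.range fun i => map (algebraMap A Ω) (g i))
  obtain ⟨G₀, hG₀⟩ : I.radical.FG := IsNoetherian.noetherian _
  have hpow : ∀ x ∈ G₀, ∃ (t : ℕ) (h : ι → MvPolynomial (Fin N) Ω),
      x ^ (t + 1) = ∑ i, h i * map (algebraMap A Ω) (g i) := by
    intro x hx
    obtain ⟨t, ht⟩ := (hG₀.le (Submodule.subset_span hx) : x ∈ I.radical)
    obtain ⟨h, hh⟩ := Ideal.mem_span_range_iff_exists_fun.1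
      (show x ^ (t + 1) ∈ I by rw [pow_succ]; exact I.mul_mem_right _ ht)
    exact ⟨t, h, hh.symm⟩
  choose e h₀ hh₀ using hpow
  let T : Finset Ω := G₀.biUnion coeffs ∪ G₀.attach.biUnion fun x => Finset.univ.biUnion fun i => (h₀ x.1 x.2 i).coeffs
  have : Algebra.IsAlgebraic A Ω := by
    have : Algebra.IsAlgebraic A (FractionRing A) := IsLocalization.isAlgebraic _ (nonZeroDivisors A)
    exact Algebra.IsAlgebraic.trans A (FractionRing A) Ω
  obtain ⟨c₀, hc₀, hint⟩ := Algebra.IsAlgebraic.exists_integral_multiples (R := A) T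
  set γ := algebraMap A Ω c₀
  have hγ : γ ≠ 0 := fun h => hc₀ (hAΩ (h.trans (map_zero _).symm))
  let B : Subalgebra A Ω := Algebra.adjoin A (T.image fun t => γ * t : Set Ω)
  have : Module.Finite A B := Module.Finite.iff_fg.2 (fg_adjoin_of_finite (Finset.finite_toSet _) fun x hx => by
    obtain ⟨t, ht, rfl⟩ := Finset.mem_image.1 hx
    simpa [Algebra.smul_def, γ] using hint t ht)
  have hBmem : ∀ {t}, t ∈ T → γ * t ∈ B := fun ht => Algebra.subset_adjoin (Finset.mem_image_of_mem _ ht)
  have hγB : γ ∈ B := B.algebraMap_mem c₀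
  have hlift : ∀ p : MvPolynomial (Fin N) Ω, (∀ m, p.coeff m ∈ B) → ∃ q, map B.val.toRingHom q = p := fun p hp =>
    mem_range_map_iff_coeffs_subset.2 fun c hc => by
      obtain ⟨m, -, rfl⟩ := mem_coeffs_iff.1 hc
      exact ⟨⟨_, hp m⟩, rfl⟩
  have hG₁ : ∀ x : G₀, ∃ q : MvPolynomial (Fin N) B, map B.val.toRingHom q = C γ * x.1 := fun x =>
    hlift _ fun m => by
      rw [coeff_C_mul]
      by_cases hm : x.1.coeff m = 0
      · rw [hm, mul_zero]; exact zero_mem _
      · exact hBmem (Finset.mem_union_left _ (Finset.mem_biUnion.2 ⟨x.1, x.2, coeff_mem_coeffs _ hm⟩))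
  choose G hG using hG₁
  have hh₁ : ∀ (x : G₀) (i : ι), ∃ q : MvPolynomial (Fin N) B, map B.val.toRingHom q = C (γ ^ (e x.1 x.2 + 1)) * h₀ x.1 x.2 i :=
    fun x i => hlift _ fun m => by
      rw [coeff_C_mul, pow_succ, mul_assoc]
      by_cases hm : (h₀ x.1 x.2 i).coeff m = 0
      · rw [hm, mul_zero, mul_zero]; exact zero_mem _
      · exact B.mul_mem (pow_mem hγB _) (hBmem (Finset.mem_union_right _ (Finset.mem_biUnion.2
          ⟨x, Finset.mem_attach _ _, Finset.mem_biUnion.2 ⟨i, Finset.mem_univ _, coeff_mem_coeffs _ hm⟩⟩)))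
  choose H hH using hh₁
  let gB : ι → MvPolynomial (Fin N) B := fun i => map (algebraMap A B) (g i)
  have hgB : ∀ i, map B.val.toRingHom (gB i) = map (algebraMap A Ω) (g i) := fun i => by
    rw [MvPolynomial.map_map]; rfl
  have hrel : ∀ x : G₀, G x ^ (e x.1 x.2 + 1) = ∑ i, H x i * gB i := fun x => by
    apply map_injective B.val.toRingHom Subtype.val_injective
    simp only [map_pow, map_sum, map_mul, hG, hH, hgB, mul_pow, hh₀, Finset.mul_sum, ← mul_assoc]
  let Gall : Set (MvPolynomial (Fin N) B) := Set.range gB ∪ Set.range G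
  let J := Ideal.span Gall
  have hJΩ : (J.map (map (algebraMap B Ω))).IsRadical := by
    have : J.map (map (algebraMap B Ω)) = I.radical := by
      refine le_antisymm ?_ ?_
      · rw [Ideal.map_span, Ideal.span_le]
        rintro _ ⟨_, ⟨i, rfl⟩ | ⟨x, rfl⟩, rfl⟩
        · rw [SetLike.mem_coe, show map (algebraMap B Ω) (gB i) = _ from hgB i]
          exact Ideal.le_radical (Ideal.subset_span ⟨i, rfl⟩)
        · rw [SetLike.mem_coe, show map (algebraMap B Ω) (G x) = _ from hG x]
          exact Ideal.mul_mem_left _ _ (hG₀.le (Submodule.subset_span x.2))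
      · rw [← hG₀]
        refine Submodule.span_le.2 fun x hx => ?_
        have := Ideal.mul_mem_left (J.map (map (algebraMap B Ω))) (C γ⁻¹)
          (Ideal.mem_map_of_mem _ (Ideal.subset_span (Or.inr ⟨⟨x, hx⟩, rfl⟩)))
        rwa [show map (algebraMap B Ω) (G ⟨x, hx⟩) = _ from hG ⟨x, hx⟩, ← mul_assoc, ← C_mul,
          inv_mul_cancel₀ hγ, C_1, one_mul] at this
    rw [this]; exact Ideal.radical_isRadical I
  have hBΩ : Function.Injective (algebraMap B Ω) := Subtype.val_injective
  obtain ⟨c₁, hc₁, hred⟩ := exists_radical_near J Ω hBΩ hJΩ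
  obtain ⟨c, hc, hcmem⟩ : ∃ c : A, c ≠ 0 ∧ algebraMap A B c ∈ Ideal.span {c₁} := by
    have : (Ideal.span {c₁}).comap (algebraMap A B) ≠ ⊥ :=
      mt (Ideal.eq_bot_of_comap_eq_bot (I := Ideal.span {c₁})) (by simpa using hc₁)
    obtain ⟨c, hc, hc0⟩ := Submodule.exists_mem_ne_zero_of_ne_bot this
    exact ⟨c, hc0, hc⟩
  obtain ⟨b, hb⟩ : (⊤ : Submodule A B).FG := Module.Finite.fg_top
  let P : Type := ι ⊕ Fin G₀.card
  let GP : P → MvPolynomial (Fin N) B := Sum.elim gB fun j => G (G₀.equivFin.symm j)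
  let d := Finset.univ.sup fun x => (GP x).totalDegree
  have key : ∀ n : ℕ, ∃ D, ∀ (k : Type u) [Field k] (F : Type u) [CommRing F] [Algebra k F]
      (_ : Module.Basis (Fin n) k F) (G : P → MvPolynomial (Fin N) F), (∀ j, (G j).totalDegree ≤ d) →
      ∀ f, map (algebraMap k F) f ∈ Ideal.span (Set.range G) →
        f ∈ Ideal.span {q | q.totalDegree ≤ D ∧ map (algebraMap k F) q ∈ Ideal.span (Set.range G)} := fun n => by
    obtain ⟨D, hD⟩ := contract_bound.{u} (N := N) (Fintype.card P) d n
    refine ⟨D, fun k _ F _ _ ε G hG f => ?_⟩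
    have := hD k F ε (G ∘ (Fintype.equivFin P).symm) (fun j => hG _) f
    rwa [Set.range_comp, Equiv.range_eq_univ, Set.image_univ] at this
  choose Dn hDn using key
  refine ⟨c, hc, (Finset.range (b.card + 1)).sup Dn, fun k _ _ hk => ?_⟩
  let p := RingHom.ker (algebraMap A k)
  have hp : p.IsPrime := RingHom.ker_isPrime _
  -- extend the point to `B`
  let kb := AlgebraicClosure k
  obtain ⟨ψ⟩ := exists_algHom_algClosed (A := A) (B := B) (fun x y h => hAΩ (congrArg Subtype.val h)) kb
  -- the finite field generated by the image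
  let Fs : Submodule k kb := Submodule.span k (ψ '' (b : Set B))
  have hψ : ∀ x, ψ x ∈ Fs := fun x => by
    have hx : x ∈ Submodule.span A (b : Set B) := hb ▸ Submodule.mem_top
    have := Submodule.apply_mem_span_image_of_mem_span ψ.toLinearMap hx
    exact Submodule.span_le_restrictScalars A k _ this
  have hmul : ∀ x ∈ Fs, ∀ y ∈ Fs, x * y ∈ Fs := by
    intro x hx y hy
    induction hx, hy using Submodule.span_induction₂ with
    | mem_mem x y hx hy =>
      obtain ⟨x, -, rfl⟩ := hx; obtain ⟨y, -, rfl⟩ := hy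
      rw [← map_mul]; exact hψ _
    | zero_left => simp
    | zero_right => simp
    | add_left x y z _ _ _ h1 h2 => rw [add_mul]; exact add_mem h1 h2
    | add_right x y z _ _ _ h1 h2 => rw [mul_add]; exact add_mem h1 h2
    | smul_left r x y _ _ h => rw [smul_mul_assoc]; exact Fs.smul_mem r h
    | smul_right r x y _ _ h => rw [mul_smul_comm]; exact Fs.smul_mem r h
  let F : Subalgebra k kb := Fs.toSubalgebra (by simpa using hψ 1) fun x y hx hy => hmul x hx y hy
  have hfinF : Module.Finite k F := Module.Finite.iff_fg.2 ⟨b.image ψ, by simp [Fs]⟩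
  have hFfield : IsField F := Subalgebra.isField_of_algebraic F
  let : Field F := hFfield.toField
  let ψF : B →+* F := ψ.toRingHom.codRestrict F hψ
  let : Algebra B F := ψF.toAlgebra
  have hψA : ∀ x, algebraMap B F (algebraMap A B x) = algebraMap k F (algebraMap A k x) := fun x =>
    Subtype.ext ((ψ.commutes x).trans (IsScalarTower.algebraMap_apply A k kb x))
  have hn : Module.finrank k F ≤ b.card := by
    refine le_trans (show Module.finrank k Fs ≤ _ from ?_) (Finset.card_image_le (f := ψ) (s := b))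
    rw [show Fs = Submodule.span k ((b.image ψ : Finset kb) : Set kb) by simp [Fs]]
    exact finrank_span_finset_le_card _
  have hc₁F : algebraMap B F c₁ ≠ 0 := fun h0 => hk (by
    obtain ⟨r, hr⟩ := Ideal.mem_span_singleton'.1 hcmem
    have := hψA c
    rw [← hr, map_mul, h0, mul_zero] at this
    exact (algebraMap k F).injective (this.symm.trans (map_zero _).symm))
  have hJF := hred F hc₁F
  have hGP : J.map (map (algebraMap B F)) = Ideal.span (Set.range fun x => map (algebraMap B F) (GP x)) := by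
    have hr : Set.range GP = Gall := by
      refine (Set.Sum.elim_range _ _).trans ?_
      exact congrArg (Set.range gB ∪ ·) (G₀.equivFin.symm.surjective.range_comp G)
    rw [Ideal.map_span, ← hr, ← Set.range_comp]
    rfl
  set IK := Ideal.span (Set.range fun i => map (algebraMap A k) (g i))
  have hgk : ∀ i, map (algebraMap k F) (map (algebraMap A k) (g i)) = map (algebraMap B F) (gB i) := fun i => by
    simp only [gB, MvPolynomial.map_map]
    rw [show (algebraMap k F).comp (algebraMap A k) = (algebraMap B F).comp (algebraMap A B) from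
      RingHom.ext fun x => (hψA x).symm]
  have h1 : IK.radical ≤ (J.map (map (algebraMap B F))).comap (map (algebraMap k F)) := by
    refine (Ideal.IsRadical.radical_le_iff (hJF.comap _)).2 (Ideal.span_le.2 ?_)
    rintro _ ⟨i, rfl⟩
    rw [SetLike.mem_coe, Ideal.mem_comap, hgk]
    exact Ideal.mem_map_of_mem _ (Ideal.subset_span (Or.inl ⟨i, rfl⟩))
  -- the contraction is the radical
  have h2 : (J.map (map (algebraMap B F))).comap (map (algebraMap k F)) ≤ IK.radical := by
    intro x hx
    rw [Ideal.mem_comap] at hx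
    have hJle : J.map (map (algebraMap B F)) ≤ (IK.map (map (algebraMap k F))).radical := by
      have hg : ∀ i, map (algebraMap B F) (gB i) ∈ IK.map (map (algebraMap k F)) := fun i => by
        rw [← hgk]; exact Ideal.mem_map_of_mem _ (Ideal.subset_span ⟨i, rfl⟩)
      rw [Ideal.map_span, Ideal.span_le]
      rintro _ ⟨_, ⟨i, rfl⟩ | ⟨y, rfl⟩, rfl⟩
      · exact Ideal.le_radical (hg i)
      · refine ⟨e y.1 y.2 + 1, ?_⟩
        rw [← map_pow, hrel, map_sum]
        exact Ideal.sum_mem _ fun i _ => by rw [map_mul]; exact Ideal.mul_mem_left _ _ (hg i)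
    obtain ⟨t, ht⟩ := hJle hx
    rw [← map_pow] at ht
    refine ⟨t, ?_⟩
    -- `k[x] → F[x]` is faithfully flat
    obtain ⟨p₀, hp₀⟩ := LinearMap.exists_leftInverse_of_injective (Algebra.linearMap k F)
      (LinearMap.ker_eq_bot.2 (algebraMap k F).injective)
    let π₀ : MvPolynomial (Fin N) F → MvPolynomial (Fin N) k := fun f =>
      ∑ m ∈ f.support, monomial m (p₀ (f.coeff m))
    have hπ₀ : ∀ f m, (π₀ f).coeff m = p₀ (f.coeff m) := fun f m => by
      simp only [π₀, coeff_sum, coeff_monomial, Finset.sum_ite_eq']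
      split_ifs with h
      · rfl
      · rw [notMem_support_iff.1 h, map_zero]
    let π : MvPolynomial (Fin N) F →+ MvPolynomial (Fin N) k := AddMonoidHom.mk' π₀ fun a b => by
      ext m
      simp [hπ₀]
    have hπc : ∀ f m, (π f).coeff m = p₀ (f.coeff m) := hπ₀
    have hp₀' : ∀ r, p₀ (algebraMap k F r) = r := fun r => LinearMap.congr_fun hp₀ r
    have hπmul : ∀ q f, π (f * map (algebraMap k F) q) = π f * q := by
      intro q f
      ext m
      rw [hπc, coeff_mul, coeff_mul, map_sum]
      refine Finset.sum_congr rfl fun x _ => ?_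
      rw [coeff_map, hπc, mul_comm, ← Algebra.smul_def, map_smul, smul_eq_mul, mul_comm]
    have hIK : ∀ y ∈ IK.map (map (algebraMap k F)), π y ∈ IK := by
      intro y hy
      rw [Ideal.map_span, ← Set.range_comp, Ideal.mem_span_range_iff_exists_fun] at hy
      obtain ⟨cf, rfl⟩ := hy
      rw [map_sum]
      exact Ideal.sum_mem _ fun i _ => by
        rw [Function.comp_apply, hπmul]; exact Ideal.mul_mem_left _ _ (Ideal.subset_span ⟨i, rfl⟩)
    have := hIK _ ht
    rwa [show π (map (algebraMap k F) (x ^ t)) = x ^ t from MvPolynomial.ext _ _ fun m => by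
      rw [hπc, coeff_map, hp₀']] at this
  intro f hf
  have := hDn (Module.finrank k F) k F (Module.finBasis k F) (fun x => map (algebraMap B F) (GP x))
    (fun x => (totalDegree_map_le _ _).trans (Finset.le_sup (f := fun x => (GP x).totalDegree) (Finset.mem_univ x))) f
    (hGP ▸ h1 hf)
  refine Ideal.span_mono (Set.ofPred_subset_ofPred.2 fun q hq => ⟨hq.1.trans (Finset.le_sup (Finset.mem_range.2 (Nat.lt_succ_of_le hn))), ?_⟩) this
  exact h2 (by rw [Ideal.mem_comap, hGP]; exact hq.2)

end Groth.Agent.CAlgH39.RadBound
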