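import Groth.Agent.GenFree.Basic
import Mathlib

/-!
Uniform degree bounds over all fields: Noetherian induction, and kernels of matrices over a
polynomial ring near the generic point.
-/

universe u v w

open MvPolynomial

namespace Groth.Agent.CAlgH39.RadBound

/-- Noetherian induction for bounds over all points with values in fields. -/
theorem exists_bound_induction {R : Type u} [CommRing R] [IsNoetherianRing R]
    (P : ∀ (k : Type u) [Field k], (R →+* k) → ℕ → Prop)
    (hmono : ∀ (k : Type u) [Field k] (φ : R →+* k) (D D' : ℕ), D ≤ D' → P k φ D → P k φ D')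
    (hgen : ∀ p : Ideal R, p.IsPrime → ∃ c ∉ p, ∃ D : ℕ,
      ∀ (k : Type u) [Field k] (φ : R →+* k), p ≤ RingHom.ker φ → φ c ≠ 0 → P k φ D) :
    ∃ D : ℕ, ∀ (k : Type u) [Field k] (φ : R →+* k), P k φ D := by
  suffices h : ∀ a : Ideal R, ∃ D : ℕ, ∀ (k : Type u) [Field k] (φ : R →+* k),
      a ≤ RingHom.ker φ → P k φ D by
    obtain ⟨D, hD⟩ := h ⊥
    exact ⟨D, fun k _ φ => hD k φ bot_le⟩
  intro a
  induction a using IsNoetherian.induction with
  | hgt a ih =>
    by_cases hp : Ideal.IsPrime a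
    · obtain ⟨c, hc, D₁, h₁⟩ := hgen a hp
      obtain ⟨D₂, h₂⟩ := ih (a ⊔ Ideal.span {c}) (lt_of_le_of_ne le_sup_left fun h =>
        hc (h ▸ Ideal.mem_sup_right (Ideal.mem_span_singleton_self c)))
      refine ⟨max D₁ D₂, fun k _ φ hφ => ?_⟩
      by_cases hφc : φ c = 0
      · exact hmono k φ _ _ (le_max_right _ _) (h₂ k φ (sup_le hφ ((Ideal.span_singleton_le_iff_mem _).2 hφc)))
      · exact hmono k φ _ _ (le_max_left _ _) (h₁ k φ hφ hφc)
    · by_cases htop : a = ⊤
      · exact ⟨0, fun k _ φ hφ => absurd (top_le_iff.1 (htop ▸ hφ)) (RingHom.ker_ne_top φ)⟩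
      · rw [Ideal.isPrime_iff] at hp
        push Not at hp
        obtain ⟨x, y, hxy, hx, hy⟩ := hp htop
        have hlt : ∀ z, z ∉ a → a < a ⊔ Ideal.span {z} := fun z hz => lt_of_le_of_ne le_sup_left fun h =>
          hz (h ▸ Ideal.mem_sup_right (Ideal.mem_span_singleton_self z))
        obtain ⟨D₁, h₁⟩ := ih _ (hlt x hx)
        obtain ⟨D₂, h₂⟩ := ih _ (hlt y hy)
        refine ⟨max D₁ D₂, fun k _ φ hφ => ?_⟩
        have h0 : φ x * φ y = 0 := by rw [← map_mul]; exact hφ hxy
        rcases mul_eq_zero.1 h0 with h | h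
        · exact hmono k φ _ _ (le_max_left _ _) (h₁ k φ (sup_le hφ ((Ideal.span_singleton_le_iff_mem _).2 h)))
        · exact hmono k φ _ _ (le_max_right _ _) (h₂ k φ (sup_le hφ ((Ideal.span_singleton_le_iff_mem _).2 h)))

/-- Maps into a module on which `f` is invertible extend along an injection with `f`-torsion cokernel. -/
theorem exists_extend {A : Type u} [CommRing A] {F : Type v} [AddCommGroup F] [Module A F]
    {M : Type w} [AddCommGroup M] [Module A M] {W : Type*} [AddCommGroup W] [Module A W] (f : A)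
    (hW : Function.Bijective fun x : W => f • x) (Φ : F →ₗ[A] M) (hinj : Function.Injective Φ)
    (htor : ∀ m, ∃ k : ℕ, f ^ k • m ∈ LinearMap.range Φ) (ψ : F →ₗ[A] W) :
    ∃ T : M →ₗ[A] W, ∀ a, T (Φ a) = ψ a := by
  have hk : ∀ k : ℕ, Function.Bijective fun x : W => f ^ k • x := by
    intro k
    induction k with
    | zero => simp only [pow_zero, one_smul]; exact Function.bijective_id
    | succ k ih => convert hW.comp ih using 1; ext x; simp [pow_succ', mul_smul]
  choose k a ha using htor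
  choose t ht using fun m => (hk (k m)).2 (ψ (a m))
  simp only at ht
  have key : ∀ m (l : ℕ) (b : F), Φ b = f ^ l • m → f ^ l • t m = ψ b := by
    intro m l b hb
    have hab : f ^ l • a m = f ^ k m • b := hinj (by
      rw [map_smul, map_smul, ha, hb, ← mul_smul, ← mul_smul, mul_comm])
    refine (hk (k m)).1 ?_
    show f ^ k m • f ^ l • t m = f ^ k m • ψ b
    rw [smul_comm, ht, ← map_smul, hab, map_smul]
  refine ⟨⟨⟨t, fun x y => ?_⟩, fun c x => ?_⟩, fun b => ?_⟩
  · refine (hk (k x + k y)).1 ?_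
    show f ^ (k x + k y) • t (x + y) = f ^ (k x + k y) • (t x + t y)
    rw [key (x + y) (k x + k y) (f ^ k y • a x + f ^ k x • a y)
      (by simp [ha, pow_add, mul_smul, smul_comm (f ^ k x) (f ^ k y)]),
      map_add, map_smul, map_smul, ← ht, ← ht, smul_add, pow_add, mul_smul, mul_smul,
      smul_comm (f ^ k x) (f ^ k y) (t x)]
  · refine (hk (k x)).1 ?_
    show f ^ k x • t (c • x) = f ^ k x • c • t x
    rw [key (c • x) (k x) (c • a x) (by rw [map_smul, ha, smul_comm]), map_smul, ← ht, smul_comm]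
  · show t (Φ b) = ψ b
    simpa using key (Φ b) 0 b (by simp)

variable {N : ℕ} {κ ι : Type} [Fintype κ] [Fintype ι]

/-- Change of coefficients for vectors of polynomials. -/
noncomputable def mapVec (A k : Type u) [CommRing A] [CommRing k] [Algebra A k] (ι : Type) :
    (ι → MvPolynomial (Fin N) A) →ₗ[A] (ι → MvPolynomial (Fin N) k) where
  toFun v i := map (algebraMap A k) (v i)
  map_add' v w := by ext i : 1; simp
  map_smul' c v := by
    ext i : 1
    simp [Algebra.smul_def, IsScalarTower.algebraMap_apply A k (MvPolynomial (Fin N) k), MvPolynomial.algebraMap_eq]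

omit [Fintype ι] in
@[simp] theorem mapVec_apply (A k : Type u) [CommRing A] [CommRing k] [Algebra A k]
    (v : ι → MvPolynomial (Fin N) A) (i : ι) : mapVec A k ι v i = map (algebraMap A k) (v i) := rfl

/-- Near the generic point of `Spec A` the kernel of a matrix commutes with base change to fields. -/
theorem exists_ker_spread {A : Type u} [CommRing A] [IsDomain A] [IsNoetherianRing A]
    (M : Matrix κ ι (MvPolynomial (Fin N) A)) :
    ∃ f : A, f ≠ 0 ∧ ∀ (k : Type u) [Field k] [Algebra A k], algebraMap A k f ≠ 0 →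
      ∀ v : ι → MvPolynomial (Fin N) k, (M.map (map (algebraMap A k))).mulVec v = 0 →
        v ∈ Submodule.span k (mapVec A k ι '' {x | M.mulVec x = 0}) := by
  classical
  let L := M.mulVecLin
  let Im := LinearMap.range L
  obtain ⟨f₁, hf₁, h₁⟩ := GenFree.exists_gfree (R := A) (M := Im) (MvPolynomial (Fin N) A)
  obtain ⟨f₂, hf₂, h₂⟩ :=
    GenFree.exists_gfree (R := A) (M := (κ → MvPolynomial (Fin N) A) ⧸ Im) (MvPolynomial (Fin N) A)
  refine ⟨f₁ * f₂, mul_ne_zero hf₁ hf₂, fun k _ _ hk v hv => ?_⟩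
  obtain ⟨α, φ₁, hφ₁, ht₁⟩ := h₁.of_dvd (dvd_mul_right f₁ f₂)
  obtain ⟨β, φ₂, hφ₂, ht₂⟩ := h₂.of_dvd (dvd_mul_left f₂ f₁)
  set f := f₁ * f₂
  -- lifts of the two bases
  choose x hx using fun i : α => (φ₁ (Finsupp.single i 1)).2
  have hw : ∀ j : β, ∃ w, Im.mkQ w = φ₂ (Finsupp.single j 1) := fun j => Im.mkQ_surjective _
  choose w hw using hw
  let Φ : ((α →₀ A) × (β →₀ A)) →ₗ[A] (κ → MvPolynomial (Fin N) A) :=
    LinearMap.coprod ((Im.subtype.restrictScalars A) ∘ₗ φ₁) (Finsupp.linearCombination A w)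
  have hπ : (Im.mkQ.restrictScalars A) ∘ₗ Finsupp.linearCombination A w = φ₂ :=
    Finsupp.lhom_ext fun j c => by
      rw [← Finsupp.smul_single_one, map_smul, map_smul, LinearMap.comp_apply,
        Finsupp.linearCombination_single, one_smul]
      exact congrArg (c • ·) (hw j)
  have hπΦ : ∀ p, Im.mkQ (Φ p) = φ₂ p.2 := fun p => by
    rw [← hπ]
    simp [Φ]
  have hinj : Function.Injective Φ := by
    rw [injective_iff_map_eq_zero]
    intro p hp
    have h2 : p.2 = 0 := hφ₂ (by rw [← hπΦ, hp, map_zero, map_zero])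
    have h1 : p.1 = 0 := hφ₁ (Subtype.ext (by simpa [Φ, h2] using hp))
    exact Prod.ext h1 h2
  have htor : ∀ m, ∃ l : ℕ, f ^ l • m ∈ LinearMap.range Φ := by
    intro m
    obtain ⟨l₂, b, hb⟩ := ht₂ (Im.mkQ m)
    have hmem : f ^ l₂ • m - Φ (0, b) ∈ Im := by
      rw [← Submodule.Quotient.mk_eq_zero, ← Submodule.mkQ_apply, map_sub, hπΦ, hb,
        LinearMap.map_smul_of_tower, sub_self]
    obtain ⟨l₁, a, ha⟩ := ht₁ ⟨_, hmem⟩
    refine ⟨l₁ + l₂, (a, f ^ l₁ • b), ?_⟩
    have ha' : (φ₁ a : κ → MvPolynomial (Fin N) A) = f ^ l₁ • (f ^ l₂ • m - Φ (0, b)) :=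
      congrArg Subtype.val ha
    simp only [Φ, LinearMap.coprod_apply, LinearMap.comp_apply, map_zero, zero_add, map_smul,
      LinearMap.coe_restrictScalars, Submodule.subtype_apply] at ha' ⊢
    rw [ha', smul_sub, sub_add_cancel, pow_add, mul_smul]
  let ψ : ((α →₀ A) × (β →₀ A)) →ₗ[A] (α →₀ k) :=
    (Finsupp.mapRange.linearMap (Algebra.linearMap A k)) ∘ₗ LinearMap.fst A _ _
  have hbij : ∀ {W : Type u} [AddCommGroup W] [Module k W] [Module A W] [IsScalarTower A k W],
      Function.Bijective fun z : W => f • z := fun {W} _ _ _ _ => by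
    simp only [← IsScalarTower.algebraMap_smul k f]
    exact MulAction.bijective (Units.mk0 _ hk)
  obtain ⟨T, hT⟩ := exists_extend f hbij Φ hinj htor ψ
  -- the bases
  let Bκ := Pi.basis fun _ : κ => basisMonomials (Fin N) A
  let Bκ' := Pi.basis fun _ : κ => basisMonomials (Fin N) k
  let Bι := Pi.basis fun _ : ι => basisMonomials (Fin N) A
  let Bι' := Pi.basis fun _ : ι => basisMonomials (Fin N) k
  have hBι : ∀ e, mapVec A k ι (Bι e) = Bι' e := fun e => by
    ext i : 1
    by_cases h : i = e.1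
    · subst h; simp [Bι, Bι']
    · simp [Bι, Bι', h]
  have hBκ : ∀ e, mapVec A k κ (Bκ e) = Bκ' e := fun e => by
    ext i : 1
    by_cases h : i = e.1
    · subst h; simp [Bκ, Bκ']
    · simp [Bκ, Bκ', h]
  let Tk : (κ → MvPolynomial (Fin N) k) →ₗ[k] (α →₀ k) := Bκ'.constr k fun e => T (Bκ e)
  have hTk : ∀ y, Tk (mapVec A k κ y) = T y := by
    have : (Tk.restrictScalars A) ∘ₗ mapVec A k κ = T := Bκ.ext fun e => by
      rw [LinearMap.comp_apply, LinearMap.coe_restrictScalars, hBκ, Module.Basis.constr_basis]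
    exact fun y => LinearMap.congr_fun this y
  let Lk := (M.map (map (algebraMap A k))).mulVecLin
  have hLk : ∀ y, Lk (mapVec A k ι y) = mapVec A k κ (L y) := fun y => by
    ext i : 1
    exact (RingHom.map_mulVec (map (algebraMap A k)) M y i).symm
  let Ξ : (α →₀ k) →ₗ[k] (ι → MvPolynomial (Fin N) k) :=
    Finsupp.linearCombination k fun i => mapVec A k ι (x i)
  have hTΞ : (Tk ∘ₗ (Lk.restrictScalars k)) ∘ₗ Ξ = LinearMap.id := by
    refine Finsupp.lhom_ext fun i c => ?_
    rw [← Finsupp.smul_single_one, map_smul, map_smul, LinearMap.comp_apply, LinearMap.comp_apply,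
      LinearMap.coe_restrictScalars, Finsupp.linearCombination_single, one_smul, hLk, hTk, LinearMap.id_apply]
    have : L (x i) = Φ (Finsupp.single i 1, 0) := by simp [Φ, L, hx]
    rw [this, hT]
    simp [ψ]
  set K₀ := Submodule.span k (mapVec A k ι '' {x | M.mulVec x = 0})
  have hspan : ∀ u : ι → MvPolynomial (Fin N) k, u ∈ K₀ ⊔ LinearMap.range Ξ := by
    intro u
    refine (show Submodule.span k (Set.range Bι') ≤ _ from Submodule.span_le.2 ?_) (Bι'.span_eq ▸ Submodule.mem_top)
    rintro _ ⟨e, rfl⟩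
    obtain ⟨l, a, ha⟩ := ht₁ ⟨L (Bι e), LinearMap.mem_range_self L _⟩
    have hxa : L (Finsupp.linearCombination A x a) = (φ₁ a : κ → MvPolynomial (Fin N) A) := by
      have : (L.restrictScalars A) ∘ₗ Finsupp.linearCombination A x = (Im.subtype.restrictScalars A) ∘ₗ φ₁ :=
        Finsupp.lhom_ext fun i c => by
          rw [← Finsupp.smul_single_one, map_smul, map_smul, LinearMap.comp_apply, LinearMap.comp_apply,
            Finsupp.linearCombination_single, one_smul]
          exact congrArg (c • ·) (hx i)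
      exact LinearMap.congr_fun this a
    have hker : M.mulVec (f ^ l • Bι e - Finsupp.linearCombination A x a) = 0 := by
      show L _ = 0
      rw [map_sub, LinearMap.map_smul_of_tower, hxa, ha]
      simp
    have hu : (algebraMap A k f) ^ l • Bι' e ∈ K₀ ⊔ LinearMap.range Ξ := by
      rw [← map_pow, IsScalarTower.algebraMap_smul, ← hBι, ← map_smul,
        ← sub_add_cancel (f ^ l • Bι e) (Finsupp.linearCombination A x a), map_add]
      refine Submodule.add_mem_sup (Submodule.subset_span ⟨_, hker, rfl⟩) ?_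
      refine ⟨Finsupp.mapRange.linearMap (Algebra.linearMap A k) a, ?_⟩
      have : (Ξ.restrictScalars A) ∘ₗ Finsupp.mapRange.linearMap (Algebra.linearMap A k) =
          mapVec A k ι ∘ₗ Finsupp.linearCombination A x :=
        Finsupp.lhom_ext fun i c => by simp [Ξ]
      exact LinearMap.congr_fun this a
    exact (Submodule.smul_mem_iff _ (pow_ne_zero l hk)).1 hu
  obtain ⟨κ₀, hκ₀, _, ⟨μ, rfl⟩, rfl⟩ := Submodule.mem_sup.1 (hspan v)
  have hκ₀L : Lk κ₀ = 0 := by
    refine (show K₀ ≤ LinearMap.ker (Lk.restrictScalars k) from Submodule.span_le.2 ?_) hκ₀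
    rintro _ ⟨y, hy, rfl⟩
    show Lk (mapVec A k ι y) = 0
    rw [hLk, show L y = 0 from hy, map_zero]
  have hμ : μ = 0 := by
    have h0 : Lk (Ξ μ) = 0 := by
      have : Lk (κ₀ + Ξ μ) = 0 := hv
      rwa [map_add, hκ₀L, zero_add] at this
    have := LinearMap.congr_fun hTΞ μ
    rw [LinearMap.id_apply] at this
    rw [← this, LinearMap.comp_apply, LinearMap.comp_apply, LinearMap.coe_restrictScalars, h0, map_zero]
  rw [hμ, map_zero, add_zero]
  exact hκ₀

end Groth.Agent.CAlgH39.RadBound
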