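import Groth.Agent.CAlgH39.RadBound.Spread

/-! Degree bounds for syzygies and for contractions along finite field extensions. -/

universe u

open MvPolynomial

namespace Groth.Agent.CAlgH39.RadBound

variable {N : ℕ}

/-- Exponents bounded by `d`. -/
noncomputable def expo (d : ℕ) (e : Fin N → Fin (d + 1)) : Fin N →₀ ℕ := Finsupp.equivFunOnFinite.symm fun i => (e i : ℕ)

theorem expo_injective (d : ℕ) : Function.Injective (expo (N := N) d) := fun e e' h => funext fun i => by
  have := congrArg (fun m : Fin N →₀ ℕ => m i) h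
  exact Fin.ext (by simpa [expo] using this)

theorem sum_coeff_monomial {R : Type u} [CommRing R] {d : ℕ} (p : MvPolynomial (Fin N) R) (hp : p.totalDegree ≤ d) :
    ∑ e, monomial (expo d e) (p.coeff (expo d e)) = p := by
  classical
  ext m
  rw [coeff_sum]
  by_cases hm : ∃ e : Fin N → Fin (d + 1), expo d e = m
  · obtain ⟨e, rfl⟩ := hm
    rw [Finset.sum_eq_single e (fun b _ hb => by rw [coeff_monomial, if_neg fun h => hb (expo_injective d h)])
      (fun h => absurd (Finset.mem_univ e) h)]
    simp
  · rw [Finset.sum_eq_zero fun e _ => by rw [coeff_monomial, if_neg fun h => hm ⟨e, h⟩]]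
    by_contra hne
    refine hm ⟨fun i => ⟨m i, Nat.lt_succ_of_le ?_⟩, Finsupp.ext fun i => by simp [expo]⟩
    refine le_trans ?_ ((le_totalDegree (mem_support_iff.2 (Ne.symm hne))).trans hp)
    by_cases hi : m i = 0
    · simp [hi]
    · exact Finset.single_le_sum (f := fun j => m j) (fun j _ => Nat.zero_le _) (Finsupp.mem_support_iff.2 hi)

/-- Coefficient variables of the universal family of polynomials of degree `≤ d`. -/
abbrev Univ (σ : Type) (N d : ℕ) : Type u := MvPolynomial (σ × (Fin N → Fin (d + 1))) (ULift.{u} ℤ)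

/-- The universal polynomials. -/
noncomputable def univPoly {σ : Type} {d : ℕ} (s : σ) : MvPolynomial (Fin N) (Univ.{u} σ N d) :=
  ∑ e, monomial (expo d e) (X (s, e))

theorem exists_spec {σ : Type} {d : ℕ} (k : Type u) [CommRing k] (p : σ → MvPolynomial (Fin N) k)
    (hp : ∀ s, (p s).totalDegree ≤ d) :
    ∃ φ : Univ.{u} σ N d →+* k, ∀ s, map φ (univPoly s) = p s := by
  refine ⟨eval₂Hom ((Int.castRingHom k).comp ULift.ringEquiv.toRingHom) fun se => (p se.1).coeff (expo d se.2),
    fun s => ?_⟩
  rw [univPoly, map_sum]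
  simp only [map_monomial, eval₂Hom_X']
  exact sum_coeff_monomial (p s) (hp s)

theorem totalDegree_map_le {R S : Type u} [CommRing R] [CommRing S] (f : R →+* S) (p : MvPolynomial (Fin N) R) :
    (map f p).totalDegree ≤ p.totalDegree :=
  Finset.sup_mono (support_map_subset f p)

/-- Kernels of matrices of bounded degree are generated in bounded degree, uniformly in the field. -/
theorem syz_bound (κ ι : Type) [Fintype κ] [Fintype ι] (d : ℕ) :
    ∃ D, ∀ (k : Type u) [Field k] (M : Matrix κ ι (MvPolynomial (Fin N) k)),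
      (∀ i j, (M i j).totalDegree ≤ d) → ∀ v, M.mulVec v = 0 →
        v ∈ Submodule.span (MvPolynomial (Fin N) k) {w | M.mulVec w = 0 ∧ ∀ j, (w j).totalDegree ≤ D} := by
  classical
  have : IsNoetherianRing (ULift.{u} ℤ) := isNoetherianRing_of_ringEquiv ℤ ULift.ringEquiv.symm
  let R := Univ.{u} (κ × ι) N d
  let MU : Matrix κ ι (MvPolynomial (Fin N) R) := fun i j => univPoly (i, j)
  obtain ⟨D, hD⟩ := exists_bound_induction (R := R)
    (fun k _ φ D => ∀ v, (MU.map (map φ)).mulVec v = 0 →
      v ∈ Submodule.span (MvPolynomial (Fin N) k) {w | (MU.map (map φ)).mulVec w = 0 ∧ ∀ j, (w j).totalDegree ≤ D})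
    (fun k _ φ D D' hDD' h v hv => Submodule.span_mono
      (Set.ofPred_subset_ofPred.2 fun w hw => ⟨hw.1, fun j => (hw.2 j).trans hDD'⟩) (h v hv))
    (fun p hp => by
      let A := R ⧸ p
      let MA : Matrix κ ι (MvPolynomial (Fin N) A) := MU.map (map (Ideal.Quotient.mk p))
      obtain ⟨f, hf, hspread⟩ := exists_ker_spread MA
      obtain ⟨c, rfl⟩ := Ideal.Quotient.mk_surjective f
      obtain ⟨G, hG⟩ : (LinearMap.ker MA.mulVecLin).FG := IsNoetherian.noetherian _
      refine ⟨c, fun hc => hf (Ideal.Quotient.eq_zero_iff_mem.2 hc),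
        G.sup fun w => Finset.univ.sup fun j => (w j).totalDegree, fun k _ φ hφ hφc v hv => ?_⟩
      let φA : A →+* k := Ideal.Quotient.lift p φ fun x hx => hφ hx
      let _ : Algebra A k := φA.toAlgebra
      have hM : MA.map (map (algebraMap A k)) = MU.map (map φ) := by
        ext i j : 1
        simp only [MA, Matrix.map_apply, MvPolynomial.map_map]
        rfl
      have hker : ∀ w, MA.mulVec w = 0 → (MU.map (map φ)).mulVec (mapVec A k ι w) = 0 := fun w hw => by
        rw [← hM]
        ext i : 1
        exact (RingHom.map_mulVec (map (algebraMap A k)) MA w i).symm.trans (by rw [hw]; simp)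
      have hmem := hspread k (show φA (Ideal.Quotient.mk p c) ≠ 0 from hφc) v (hM.symm ▸ hv)
      set S := {w : ι → MvPolynomial (Fin N) k | (MU.map (map φ)).mulVec w = 0 ∧
        ∀ j, (w j).totalDegree ≤ G.sup fun w => Finset.univ.sup fun j => (w j).totalDegree} with hS
      refine (Submodule.span_le (p := (Submodule.span (MvPolynomial (Fin N) k) S).restrictScalars k)).2 ?_ hmem
      rintro _ ⟨w, hw, rfl⟩
      have hw' : w ∈ Submodule.span (MvPolynomial (Fin N) A) (G : Set (ι → MvPolynomial (Fin N) A)) := hG.ge hw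
      rw [SetLike.mem_coe, Submodule.restrictScalars_mem]
      clear hw
      induction hw' using Submodule.span_induction with
      | mem y hy =>
        refine Submodule.subset_span ⟨hker y (hG.le (Submodule.subset_span hy)), fun j => ?_⟩
        exact ((totalDegree_map_le _ (y j)).trans (Finset.le_sup (f := fun j => (y j).totalDegree) (Finset.mem_univ j))).trans
          (Finset.le_sup (f := fun w : ι → MvPolynomial (Fin N) A => Finset.univ.sup fun j => (w j).totalDegree) hy)
      | zero => rw [map_zero]; exact zero_mem _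
      | add y z _ _ hy hz => rw [map_add]; exact add_mem hy hz
      | smul q y _ hy =>
        have : mapVec A k ι (q • y) = map (algebraMap A k) q • mapVec A k ι y := by ext j : 1; simp
        rw [this]
        exact Submodule.smul_mem _ _ hy)
  refine ⟨D, fun k _ M hM v hv => ?_⟩
  obtain ⟨φ, hφ⟩ := exists_spec k (fun s : κ × ι => M s.1 s.2) (fun s => hM _ _)
  have hMU : MU.map (map φ) = M := Matrix.ext fun i j => hφ (i, j)
  simpa only [hMU] using hD k φ v (hMU.symm ▸ hv)

/-- Contraction of ideals generated in bounded degree along field extensions of bounded degree. -/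
theorem contract_bound (g d n : ℕ) :
    ∃ D, ∀ (k : Type u) [Field k] (F : Type u) [CommRing F] [Algebra k F]
      (_ : Module.Basis (Fin n) k F) (G : Fin g → MvPolynomial (Fin N) F), (∀ j, (G j).totalDegree ≤ d) →
      ∀ f, map (algebraMap k F) f ∈ Ideal.span (Set.range G) →
        f ∈ Ideal.span {q | q.totalDegree ≤ D ∧ map (algebraMap k F) q ∈ Ideal.span (Set.range G)} := by
  classical
  obtain ⟨D, hD⟩ := syz_bound.{u} (N := N) (Fin n) (Option (Fin n × Fin g)) d
  refine ⟨D, fun k _ F _ _ ε G hG f hf => ?_⟩
  -- coordinates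
  let crd : MvPolynomial (Fin N) F → Fin n → (MvPolynomial (Fin N) k) := fun h i =>
    ∑ m ∈ h.support, monomial m (ε.repr (h.coeff m) i)
  have hcrd : ∀ h, ∑ i, C (ε i) * (map (algebraMap k F)) (crd h i) = h := by
    intro h
    conv_rhs => rw [h.as_sum]
    simp only [crd, map_sum, Finset.mul_sum, map_monomial, C_mul_monomial]
    rw [Finset.sum_comm]
    refine Finset.sum_congr rfl fun m _ => ?_
    rw [← map_sum]
    congr 1
    conv_rhs => rw [← ε.sum_repr (h.coeff m)]
    exact Finset.sum_congr rfl fun i _ => by rw [Algebra.smul_def, mul_comm]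
  have hdeg : ∀ h i, (crd h i).totalDegree ≤ h.totalDegree := fun h i =>
    totalDegree_finsetSum_le fun m hm => (totalDegree_monomial_le _ _).trans (le_totalDegree hm)
  have huniq : ∀ p : Fin n → (MvPolynomial (Fin N) k), ∑ i, C (ε i) * map (algebraMap k F) (p i) = 0 → p = 0 := by
    intro p hp
    funext i
    ext m
    have h1 := congrArg (coeff m) hp
    simp only [coeff_sum, coeff_C_mul, coeff_map, coeff_zero] at h1
    have h2 := Fintype.linearIndependent_iff.1 ε.linearIndependent (fun i => (p i).coeff m)
      (by simpa [Algebra.smul_def, mul_comm] using h1) i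
    simpa using h2
  let Q : Option (Fin n × Fin g) → MvPolynomial (Fin N) F :=
    fun o => o.elim (-1) fun lj => C (ε lj.1) * G lj.2
  let M : Matrix (Fin n) (Option (Fin n × Fin g)) (MvPolynomial (Fin N) k) := fun i o => crd (Q o) i
  have hQ : ∀ o, (Q o).totalDegree ≤ d := by
    rintro (_ | ⟨l, j⟩)
    · simp [Q]
    · exact (totalDegree_mul _ _).trans (by rw [totalDegree_C, zero_add]; exact hG j)
  have hMdeg : ∀ i o, (M i o).totalDegree ≤ d := fun i o => (hdeg _ i).trans (hQ o)
  have hval : ∀ w, ∑ i, C (ε i) * map (algebraMap k F) (M.mulVec w i) = ∑ o, (map (algebraMap k F)) (w o) * Q o := by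
    intro w
    conv_rhs => enter [2, o]; rw [← hcrd (Q o), Finset.mul_sum]
    rw [Finset.sum_comm]
    refine Finset.sum_congr rfl fun i _ => ?_
    simp only [Matrix.mulVec, dotProduct, map_sum, map_mul, Finset.mul_sum]
    exact Finset.sum_congr rfl fun o _ => by simp only [M]; ring
  have hiff : ∀ w, M.mulVec w = 0 → (map (algebraMap k F)) (w none) ∈ Ideal.span (Set.range G) := by
    intro w hw
    have h := hval w
    simp only [hw, Pi.zero_apply, map_zero, mul_zero, Finset.sum_const_zero, Fintype.sum_option] at h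
    have e : (map (algebraMap k F)) (w none) = ∑ lj, (map (algebraMap k F)) (w (some lj)) * Q (some lj) := by
      have : (map (algebraMap k F)) (w none) * Q none = - (map (algebraMap k F)) (w none) := by simp [Q]
      rw [this] at h
      linear_combination h
    rw [e]
    exact Ideal.sum_mem _ fun lj _ => Ideal.mul_mem_left _ _
      (Ideal.mul_mem_left _ _ (Ideal.subset_span ⟨lj.2, rfl⟩))
  obtain ⟨hc, hhc⟩ := Ideal.mem_span_range_iff_exists_fun.1 hf
  let v : Option (Fin n × Fin g) → (MvPolynomial (Fin N) k) := fun o => o.elim f fun lj => crd (hc lj.2) lj.1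
  have hv : M.mulVec v = 0 := by
    refine huniq _ ?_
    rw [hval, Fintype.sum_option, Fintype.sum_prod_type_right]
    have : ∀ j, ∑ l, (map (algebraMap k F)) (v (some (l, j))) * Q (some (l, j)) = hc j * G j := fun j => by
      conv_rhs => rw [← hcrd (hc j), Finset.sum_mul]
      exact Finset.sum_congr rfl fun l _ => by simp only [v, Q, Option.elim]; ring
    simp only [this, hhc]
    simp [v, Q]
  have hmem := hD k M hMdeg v hv
  have : LinearMap.proj (R := (MvPolynomial (Fin N) k)) (φ := fun _ : Option (Fin n × Fin g) => (MvPolynomial (Fin N) k)) none v ∈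
      Ideal.span {q | q.totalDegree ≤ D ∧ map (algebraMap k F) q ∈ Ideal.span (Set.range G)} := by
    refine Submodule.map_le_iff_le_comap.2 ?_ (Submodule.mem_map_of_mem hmem)
    rw [← Submodule.map_le_iff_le_comap, Submodule.map_span]
    refine Submodule.span_le.2 ?_
    rintro _ ⟨w, ⟨hw, hwd⟩, rfl⟩
    exact Ideal.subset_span ⟨hwd none, hiff w hw⟩
  exact this

end Groth.Agent.CAlgH39.RadBound
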